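import Mathlib.GroupTheory.Sylow
import Mathlib.GroupTheory.Coset.Basic
import Mathlib.GroupTheory.GroupAction.Quotient
import Cfsg.Agent.Lib.Perm.SylowCount

/-!
Fixed points of a Sylow `p`-subgroup in a transitive action: the basic definitions.
`D p H = (p - 1) [G : H] - (2 p - 1) f`, where `f` is the number of fixed cosets of a Sylow
`p`-subgroup on `G ⧸ H`.
-/

set_option autoImplicit false

namespace Cfsg.Agent.Perm.SylowFix

open MulAction Subgroup Pointwise Cfsg.Agent.Perm.SylowCount

universe u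

variable {G : Type u} [Group G] {p : ℕ}

/-- The subgroup generated by the `p`-elements of `H`. -/
def pRes (p : ℕ) (H : Subgroup G) : Subgroup G :=
  Subgroup.closure {g : G | g ∈ H ∧ g ∈ pElts p G}

/-- The group is generated by its `p`-elements. -/
def SG (p : ℕ) (G : Type u) [Group G] : Prop := Subgroup.closure (pElts p G) = ⊤

theorem pRes_le (H : Subgroup G) : pRes p H ≤ H :=
  (Subgroup.closure_le H).2 fun _ hg => hg.1

theorem le_pRes_of_isPGroup {R H : Subgroup G} (hR : IsPGroup p R) (h : R ≤ H) :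
    R ≤ pRes p H := by
  intro x hx
  obtain ⟨k, hk⟩ := hR ⟨x, hx⟩
  exact Subgroup.subset_closure ⟨h hx, k, by simpa [Subtype.ext_iff] using hk⟩

theorem pRes_eq_top {H : Subgroup G} (h : pRes p H = ⊤) : H = ⊤ := by
  have h1 := pRes_le (p := p) H
  rw [h] at h1
  exact top_le_iff.mp h1

theorem sg_pRes (H : Subgroup G) : SG p ↥(pRes p H) := by
  refine top_le_iff.mp ?_
  have h := Subgroup.closure_closure_coe_preimage (k := {g : G | g ∈ H ∧ g ∈ pElts p G})
  refine le_trans (le_of_eq h.symm) (Subgroup.closure_mono ?_)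
  rintro x ⟨-, k, hk⟩
  exact ⟨k, Subtype.ext ((SubgroupClass.coe_pow x _).trans hk)⟩

/-- The normalizer of `pRes p H`. -/
def nH (p : ℕ) (H : Subgroup G) : Subgroup G := Subgroup.normalizer (pRes p H : Set G)

theorem le_nH (H : Subgroup G) : H ≤ nH p H := by
  intro h hh
  refine mem_normalizer_iff.mpr fun n => ?_
  have key : ∀ a ∈ H, ∀ m : G, m ∈ pRes p H → a * m * a⁻¹ ∈ pRes p H := by
    intro a ha m hm
    induction hm using Subgroup.closure_induction with
    | mem x hx =>
      exact Subgroup.subset_closure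
        ⟨H.mul_mem (H.mul_mem ha hx.1) (H.inv_mem ha), pElts_conj hx.2 a⟩
    | one => simp
    | mul x y _ _ hx hy =>
      have e : a * (x * y) * a⁻¹ = a * x * a⁻¹ * (a * y * a⁻¹) := by group
      rw [e]; exact mul_mem hx hy
    | inv x _ hx =>
      have e : a * x⁻¹ * a⁻¹ = (a * x * a⁻¹)⁻¹ := by group
      rw [e]; exact inv_mem hx
  refine ⟨key h hh n, fun hn => ?_⟩
  have := key h⁻¹ (inv_mem hh) _ hn
  simpa [mul_assoc] using this

theorem mem_smul_sylow {g y : G} {S : Sylow p G} :
    y ∈ ((g • S : Sylow p G) : Subgroup G) ↔ g⁻¹ * y * g ∈ (S : Subgroup G) := by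
  rw [Sylow.coe_subgroup_smul, Subgroup.mem_pointwise_smul_iff_inv_smul_mem, MulAut.smul_def,
    ← map_inv, MulAut.conj_apply, inv_inv]

variable [hp : Fact p.Prime] [Finite G]

/-- A `p`-subgroup normalizing a subgroup that contains a Sylow `p`-subgroup is inside it. -/
theorem le_of_le_normalizer {R M : Subgroup G} (hR : IsPGroup p R)
    (hRN : R ≤ Subgroup.normalizer (M : Set G)) {S : Sylow p G} (hS : (S : Subgroup G) ≤ M) :
    R ≤ M := by
  set N := Subgroup.normalizer (M : Set G) with hN
  have hSN : (S : Subgroup G) ≤ N := hS.trans le_normalizer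
  have hR' : IsPGroup p (R.subgroupOf N) :=
    hR.comap_of_injective N.subtype N.subtype_injective
  obtain ⟨T, hT⟩ := hR'.exists_le_sylow
  obtain ⟨g, hg⟩ := MulAction.exists_smul_eq N (S.subtype hSN) T
  rw [Sylow.smul_subtype hSN] at hg
  intro x hx
  have h1 : (⟨x, hRN hx⟩ : N) ∈ T := hT (by rw [mem_subgroupOf]; exact hx)
  rw [← hg] at h1
  have h2 : x ∈ (((g : G) • S : Sylow p G) : Subgroup G) := h1
  rw [mem_smul_sylow] at h2
  have h3 := (mem_normalizer_iff.mp g.2 _).mp (hS h2)
  simpa [mul_assoc] using h3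

theorem sylow_le_pRes_of_le_nH {H : Subgroup G} {S Q : Sylow p G}
    (hS : (S : Subgroup G) ≤ H) (hQ : (Q : Subgroup G) ≤ nH p H) :
    (Q : Subgroup G) ≤ pRes p H :=
  le_of_le_normalizer Q.2 hQ (le_pRes_of_isPGroup S.2 hS)

/-- The cosets of `H` fixed by `Q`. -/
abbrev fixSet (H : Subgroup G) (Q : Sylow p G) : Type u :=
  {c : G ⧸ H // (Q : Subgroup G) ≤ stabilizer G c}

omit hp [Finite G] in
theorem le_stabilizer_mk {H R : Subgroup G} (g : G) :
    R ≤ stabilizer G ((g : G) : G ⧸ H) ↔ ∀ x ∈ R, g⁻¹ * x * g ∈ H := by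
  refine forall₂_congr fun x _ => ?_
  rw [mem_stabilizer_iff, MulAction.Quotient.smul_coe, QuotientGroup.eq, smul_eq_mul]
  constructor
  · intro h
    have := H.inv_mem h
    simpa [mul_assoc] using this
  · intro h
    have := H.inv_mem h
    simpa [mul_assoc] using this

omit hp [Finite G] in
theorem smul_le_stabilizer {α : Type*} [MulAction G α] (Q : Sylow p G) (g : G) (a : α) :
    ((g • Q : Sylow p G) : Subgroup G) ≤ stabilizer G (g • a) ↔
      (Q : Subgroup G) ≤ stabilizer G a := by
  rw [stabilizer_smul_eq_stabilizer_map_conj, Sylow.coe_subgroup_smul]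
  exact map_le_map_iff_of_injective (MulAut.conj g).injective

theorem card_fixSet_congr (H : Subgroup G) (Q R : Sylow p G) :
    Nat.card (fixSet H Q) = Nat.card (fixSet H R) := by
  obtain ⟨g, rfl⟩ := MulAction.exists_smul_eq G Q R
  exact Nat.card_congr ((MulAction.toPerm g).subtypeEquiv fun c => by
    rw [MulAction.toPerm_apply]; exact (smul_le_stabilizer Q g c).symm)

/-- Number of fixed cosets of a Sylow subgroup. -/
noncomputable def fx (p : ℕ) (H : Subgroup G) : ℕ :=
  Nat.card (fixSet H (default : Sylow p G))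

theorem fx_eq (H : Subgroup G) (Q : Sylow p G) : fx p H = Nat.card (fixSet H Q) :=
  card_fixSet_congr H _ _

/-- The deficit. -/
noncomputable def D (p : ℕ) (H : Subgroup G) : ℤ :=
  ((p : ℤ) - 1) * H.index - (2 * (p : ℤ) - 1) * fx p H

theorem D_top : D p (⊤ : Subgroup G) = -p := by
  have h : fx p (⊤ : Subgroup G) = 1 := by
    rw [fx, Nat.card_eq_one_iff_unique]
    haveI : Subsingleton (G ⧸ (⊤ : Subgroup G)) := QuotientGroup.subsingleton_quotient_top
    refine ⟨⟨fun a b => Subtype.ext (Subsingleton.elim _ _)⟩, ⟨⟨((1 : G) : G ⧸ (⊤ : Subgroup G)), ?_⟩⟩⟩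
    exact (le_stabilizer_mk 1).2 fun x _ => mem_top _
  rw [D, h, Subgroup.index_top]
  push_cast
  ring

omit [Finite G] in
theorem dvd_index_of_isEmpty [Finite G] {H : Subgroup G} (h : fx p H = 0) : p ∣ H.index := by
  set P : Sylow p G := default with hP
  have hm := P.2.card_modEq_card_fixedPoints (G ⧸ H)
  have h0 : Nat.card (fixedPoints (P : Subgroup G) (G ⧸ H)) = 0 := by
    rw [Nat.card_eq_zero]
    left
    refine ⟨fun c => ?_⟩
    rw [fx, Nat.card_eq_zero] at h
    rcases h with h | h
    · exact h.false ⟨c.1, fun x hx => mem_stabilizer_iff.mpr (c.2 ⟨x, hx⟩)⟩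
    · exact not_finite (fixSet H (default : Sylow p G))
  rw [h0] at hm
  exact Nat.modEq_zero_iff_dvd.mp hm

/-- A small deficit forces a fixed coset, so `H` contains a Sylow subgroup. -/
theorem exists_sylow_le {H : Subgroup G} {k : ℕ} (hk : k + 1 ≤ p) (hD : D p H < k * p) :
    ∃ S : Sylow p G, (S : Subgroup G) ≤ H := by
  by_cases h : fx p H = 0
  · exfalso
    have hle : p ≤ H.index := Nat.le_of_dvd (Nat.pos_of_ne_zero index_ne_zero_of_finite)
      (dvd_index_of_isEmpty h)
    rw [D, h] at hD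
    push_cast at hD
    have h1 : (k : ℤ) ≤ (p : ℤ) - 1 := by omega
    have h2 : (p : ℤ) ≤ H.index := by omega
    nlinarith
  · rw [← ne_eq, fx, Nat.card_ne_zero] at h
    obtain ⟨⟨c, hc⟩⟩ := h.1
    induction c using QuotientGroup.induction_on with
    | _ g =>
      refine ⟨g⁻¹ • (default : Sylow p G), fun x hx => ?_⟩
      rw [mem_smul_sylow] at hx
      have := (le_stabilizer_mk g).1 hc _ hx
      simpa [mul_assoc] using this

/-- Passing from `H` to `nH p H`. -/
theorem D_nH_lt {H : Subgroup G} {k : ℕ} {S : Sylow p G} (hS : (S : Subgroup G) ≤ H)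
    (hD : D p H < k * p) : D p (nH p H) < k * p := by
  have hle := le_nH (p := p) H
  set s := H.relIndex (nH p H) with hs
  have hidx : (H.index : ℤ) = s * (nH p H).index := by
    rw [hs, ← Nat.cast_mul, relIndex_mul_index hle]
  have hspos : 0 < s := Nat.pos_of_ne_zero index_ne_zero_of_finite
  have hfx : fx p H = fx p (nH p H) * s := by
    set Q : Sylow p G := default with hQ
    rw [fx_eq H Q, fx_eq (nH p H) Q]
    let e := Subgroup.quotientEquivProdOfLE hle
    have he : ∀ c, (Q : Subgroup G) ≤ stabilizer G c ↔ (Q : Subgroup G) ≤ stabilizer G (e c).1 := by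
      intro c
      induction c using QuotientGroup.induction_on with
      | _ g =>
        have e1 : (e ((g : G) : G ⧸ H)).1 = ((g : G) : G ⧸ nH p H) := rfl
        rw [e1, le_stabilizer_mk, le_stabilizer_mk]
        refine ⟨fun h x hx => hle (h x hx), fun h x hx => ?_⟩
        refine pRes_le H (sylow_le_pRes_of_le_nH (Q := g⁻¹ • Q) hS ?_ ?_)
        · intro y hy
          rw [mem_smul_sylow, inv_inv] at hy
          simpa [mul_assoc] using h _ hy
        · rw [mem_smul_sylow, inv_inv]
          simpa [mul_assoc] using hx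
    have e2 : fixSet H Q ≃ fixSet (nH p H) Q × (nH p H ⧸ H.subgroupOf (nH p H)) :=
      (e.subtypeEquiv he).trans
        Equiv.prodSubtypeFstEquivSubtypeProd
    rw [Nat.card_congr e2, Nat.card_prod]
    rfl
  by_contra hc
  push Not at hc
  have h1 : D p H = s * D p (nH p H) := by
    simp only [D, hidx, hfx]
    push_cast
    ring
  rw [h1] at hD
  have h3 : (1 : ℤ) ≤ s := by exact_mod_cast hspos
  have h4 : (0 : ℤ) ≤ (k : ℤ) * p := by positivity
  nlinarith

end Cfsg.Agent.Perm.SylowFix
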