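import Cfsg.Agent.Lib.Perm.SylowFix.Orbit

/-!
In a finite group generated by its `p`-elements a Sylow `p`-subgroup fixes at most
`(p - 1) r / (2 p - 1)` points of any transitive action of degree `r > 1`.
-/

set_option autoImplicit false

namespace Cfsg.Agent.Perm.SylowFix

open MulAction Subgroup Pointwise Cfsg.Agent.Perm.SylowCount

universe u

variable {p : ℕ} [hp : Fact p.Prime]

/-- The property proved by induction. -/
def GoodA (p : ℕ) [Fact p.Prime] (G : Type u) [Group G] [Finite G] : Prop :=
  SG p G → ∀ H : Subgroup G, H ≠ ⊤ → 0 ≤ D p H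

theorem efix_nH_le_one {G : Type u} [Group G] [Finite G] {H M : Subgroup G}
    (hM : M = Subgroup.closure {g : G | g ∈ M ∧ g ∈ pElts p G})
    (hc : Nat.card (pRes p H) ≤ Nat.card M) {S : Sylow p G} (hS : (S : Subgroup G) ≤ H) :
    efix M (nH p H) ≤ 1 := by
  have key : ∀ g : G, M ≤ stabilizer G ((g : G) : G ⧸ nH p H) →
      M = (pRes p H).map (MulAut.conj g).toMonoidHom := by
    intro g hg
    refine Subgroup.eq_of_le_of_card_ge ?_ ?_
    · rw [hM, Subgroup.closure_le]
      rintro x ⟨hxM, hx⟩
      have hxN : g⁻¹ * x * g ∈ nH p H := (le_stabilizer_mk g).1 hg x hxM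
      have hxp : g⁻¹ * x * g ∈ pElts p G := by
        have := pElts_conj hx g⁻¹; rwa [inv_inv] at this
      obtain ⟨k, hk⟩ := hxp
      have hP : IsPGroup p (Subgroup.zpowers (g⁻¹ * x * g)) := by
        rintro ⟨y, n, rfl⟩
        refine ⟨k, Subtype.ext ?_⟩
        simp only [SubgroupClass.coe_pow, OneMemClass.coe_one]
        rw [← zpow_natCast, ← zpow_mul, mul_comm, zpow_mul, zpow_natCast, hk, one_zpow]
      have h1 := le_of_le_normalizer hP (Subgroup.zpowers_le.mpr hxN)
        (le_pRes_of_isPGroup S.2 hS) (Subgroup.mem_zpowers _)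
      refine ⟨_, h1, ?_⟩
      change g * (g⁻¹ * x * g) * g⁻¹ = x
      group
    · rw [Subgroup.card_map_of_injective (MulAut.conj g).injective]
      exact hc
  rw [efix, Finite.card_le_one_iff_subsingleton]
  refine ⟨fun ⟨a, ha⟩ ⟨b, hb⟩ => Subtype.ext ?_⟩
  induction a using QuotientGroup.induction_on with
  | _ g =>
    induction b using QuotientGroup.induction_on with
    | _ h =>
      change ((g : G) : G ⧸ nH p H) = (h : G ⧸ nH p H)
      rw [QuotientGroup.eq]
      have e := (key g ha).symm.trans (key h hb)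
      refine mem_normalizer_iff.mpr fun n => ?_
      constructor
      · intro hn
        have h1 : h * n * h⁻¹ ∈ (pRes p H).map (MulAut.conj g).toMonoidHom := by
          rw [e]; exact ⟨n, hn, rfl⟩
        obtain ⟨m, hm, hm'⟩ := h1
        change g * m * g⁻¹ = h * n * h⁻¹ at hm'
        have h2 : g⁻¹ * h * n * (g⁻¹ * h)⁻¹ = m := by
          have : m = g⁻¹ * (h * n * h⁻¹) * g := by rw [← hm']; group
          rw [this]; group
        rw [h2]; exact hm
      · intro hn
        have h1 : g * (g⁻¹ * h * n * (g⁻¹ * h)⁻¹) * g⁻¹ ∈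
            (pRes p H).map (MulAut.conj h).toMonoidHom := by
          rw [← e]; exact ⟨_, hn, rfl⟩
        obtain ⟨m, hm, hm'⟩ := h1
        change h * m * h⁻¹ = g * (g⁻¹ * h * n * (g⁻¹ * h)⁻¹) * g⁻¹ at hm'
        have h2 : n = m := by
          have : m = h⁻¹ * (g * (g⁻¹ * h * n * (g⁻¹ * h)⁻¹) * g⁻¹) * h := by rw [← hm']; group
          rw [this]; group
        rw [h2]; exact hm

/-- Subgroups of small deficit have a common Sylow subgroup. -/
theorem common {n : ℕ}
    (hsmall : ∀ (G : Type u) [Group G] [Finite G], Nat.card G < n → GoodA p G) :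
    ∀ (m : ℕ) (G : Type u) [Group G] [Finite G], Nat.card G ≤ n → SG p G →
      ∀ k : ℕ, k + m ≤ p → ∀ L : Finset (Subgroup G), L.card ≤ m →
        (∀ H ∈ L, D p H < k * p) → ∃ Q : Sylow p G, ∀ H ∈ L, (Q : Subgroup G) ≤ H := by
  intro m
  induction m with
  | zero =>
    intro G _ _ _ _ k _ L hL _
    refine ⟨default, fun H hH => ?_⟩
    simp [Finset.card_eq_zero.mp (Nat.le_zero.mp hL)] at hH
  | succ m ih =>
    intro G _ _ hn hG k hkm L hL hD
    classical
    rcases L.eq_empty_or_nonempty with rfl | hne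
    · exact ⟨default, fun H hH => by simp at hH⟩
    obtain ⟨H₀, hH₀, hmax⟩ := L.exists_max_image (fun H => Nat.card (pRes p H)) hne
    have hk : k + 1 ≤ p := by omega
    set M := pRes p H₀ with hMdef
    obtain ⟨S₀, hS₀⟩ := exists_sylow_le hk (hD H₀ hH₀)
    have hS₀M : (S₀ : Subgroup G) ≤ M := le_pRes_of_isPGroup S₀.2 hS₀
    have hcard : (L.erase H₀).card ≤ m := by
      rw [Finset.card_erase_of_mem hH₀]; omega
    by_cases hMtop : M = ⊤
    · obtain ⟨Q, hQ⟩ := ih G hn hG k (by omega) (L.erase H₀) hcard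
        (fun H hH => hD H (Finset.mem_of_mem_erase hH))
      refine ⟨Q, fun H hH => ?_⟩
      by_cases h : H = H₀
      · rw [h, pRes_eq_top hMtop]; exact le_top
      · exact hQ H (Finset.mem_erase.mpr ⟨h, hH⟩)
    have hlt : Nat.card M < Nat.card G := by
      refine lt_of_le_of_ne (Subgroup.card_le_card_group _) fun h => hMtop ?_
      exact Subgroup.eq_top_of_card_eq M h
    have hMSG : SG p M := sg_pRes H₀
    have hA : ∀ K : Subgroup M, K ≠ ⊤ → 0 ≤ D p K := hsmall M (by omega) hMSG
    have hM : M = Subgroup.closure {g : G | g ∈ M ∧ g ∈ pElts p G} := by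
      refine le_antisymm ?_ ((Subgroup.closure_le M).2 fun x hx => hx.1)
      rw [hMdef, pRes, Subgroup.closure_le]
      intro x hx
      exact Subgroup.subset_closure ⟨Subgroup.subset_closure hx, hx.2⟩
    obtain ⟨Q', hQ'⟩ := ih M (by omega) hMSG (k + 1) (by omega)
      ((L.erase H₀).image fun H => (nH p H).subgroupOf M)
      (Finset.card_image_le.trans hcard) (by
        intro K hK
        obtain ⟨H, hH, rfl⟩ := Finset.mem_image.mp hK
        have hHL := Finset.mem_of_mem_erase hH
        by_cases htop : (nH p H).subgroupOf M = ⊤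
        · rw [htop, D_top]
          have h2 := hp.out.two_le
          push_cast
          nlinarith
        obtain ⟨S, hS⟩ := exists_sylow_le hk (hD H hHL)
        have h1 := orbit_bound M (nH p H) hS₀M hA htop
        have h2 := D_nH_lt hS (hD H hHL)
        have h3 := efix_nH_le_one hM (hmax H hHL) hS
        have h4 : (p : ℤ) * efix M (nH p H) ≤ p := by
          have : (efix M (nH p H) : ℤ) ≤ 1 := by exact_mod_cast h3
          nlinarith [Int.natCast_nonneg p]
        push_cast
        linarith)
    obtain ⟨x, hx⟩ := MulAction.exists_smul_eq M (S₀.subtype hS₀M) Q'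
    rw [Sylow.smul_subtype hS₀M] at hx
    refine ⟨(x : G) • S₀, fun H hH => ?_⟩
    have hQM : (((x : G) • S₀ : Sylow p G) : Subgroup G) ≤ M := Sylow.smul_le hS₀M x
    by_cases h : H = H₀
    · rw [h]; exact hQM.trans (pRes_le H₀)
    · obtain ⟨S, hS⟩ := exists_sylow_le hk (hD H hH)
      refine (sylow_le_pRes_of_le_nH hS ?_).trans (pRes_le H)
      intro y hy
      have h1 := hQ' ((nH p H).subgroupOf M)
        (Finset.mem_image_of_mem _ (Finset.mem_erase.mpr ⟨h, hH⟩))
      have h2 : (⟨y, hQM hy⟩ : M) ∈ (Q' : Subgroup M) := by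
        rw [← hx, Sylow.coe_subtype, mem_subgroupOf]; exact hy
      exact mem_subgroupOf.mp (h1 h2)

theorem D_stabilizer {G : Type u} [Group G] [Finite G] (H : Subgroup G) (c : G ⧸ H) :
    D p (stabilizer G c) = D p H := by
  let e : (G ⧸ stabilizer G c) ≃ (G ⧸ H) :=
    Equiv.ofBijective (ofQuotientStabilizer G c)
      ⟨injective_ofQuotientStabilizer G c, fun d => by
        obtain ⟨g, hg⟩ := MulAction.exists_smul_eq G c d
        exact ⟨(g : G ⧸ stabilizer G c), hg⟩⟩
  have h1 : (stabilizer G c).index = H.index := Nat.card_congr e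
  have h2 : fx p (stabilizer G c) = fx p H := by
    rw [fx, fx]
    refine Nat.card_congr (e.subtypeEquiv fun q => forall₂_congr fun x _ => ?_)
    rw [mem_stabilizer_iff, mem_stabilizer_iff]
    change x • q = q ↔ x • ofQuotientStabilizer G c q = ofQuotientStabilizer G c q
    rw [← ofQuotientStabilizer_smul]
    exact (injective_ofQuotientStabilizer G c).eq_iff.symm
  rw [D, D, h1, h2]

theorem exists_last_mover {G : Type u} [Group G] {α : Type u} [MulAction G α] (a : α) :
    ∀ (k : ℕ) (x : G), x ^ p ^ k = 1 → x • a ≠ a →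
      ∃ z ∈ pElts p G, z • a ≠ a ∧ z ^ p • a = a := by
  intro k
  induction k with
  | zero => intro x h1 h2; rw [pow_zero, pow_one] at h1; rw [h1, one_smul] at h2; exact (h2 rfl).elim
  | succ k ih =>
    intro x h1 h2
    by_cases h : x ^ p • a = a
    · exact ⟨x, ⟨k + 1, h1⟩, h2, h⟩
    · exact ih (x ^ p) (by rw [← pow_mul, ← pow_succ']; exact h1) h

theorem goodA (n : ℕ) : ∀ (G : Type u) [Group G] [Finite G], Nat.card G ≤ n → GoodA p G := by
  induction n using Nat.strong_induction_on with
  | _ n ih =>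
    intro G _ _ hn hG H hH
    by_contra hD
    push Not at hD
    have hsmall : ∀ (G' : Type u) [Group G'] [Finite G'], Nat.card G' < n → GoodA p G' :=
      fun G' _ _ h => ih (Nat.card G') h G' le_rfl
    obtain ⟨x, ⟨k, hk⟩, hx⟩ : ∃ x ∈ pElts p G, x ∉ H := by
      by_contra hc
      push Not at hc
      apply hH
      rw [eq_top_iff, ← show Subgroup.closure (pElts p G) = ⊤ from hG, Subgroup.closure_le]
      exact hc
    set a : G ⧸ H := ((1 : G) : G ⧸ H) with ha
    have hxa : x • a ≠ a := by
      rw [ha, MulAction.Quotient.smul_coe, ne_eq, QuotientGroup.eq, smul_eq_mul, mul_one, mul_one,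
        inv_mem_iff]
      exact hx
    obtain ⟨z, ⟨l, hl⟩, hza, hzp⟩ := exists_last_mover a k x hk hxa
    classical
    obtain ⟨Q, hQ⟩ := common hsmall p G hn hG 0 (by omega)
      ((Finset.range p).image fun i => stabilizer G (z ^ i • a))
      (Finset.card_image_le.trans (by simp)) (by
        intro K hK
        obtain ⟨i, -, rfl⟩ := Finset.mem_image.mp hK
        rw [D_stabilizer]; simpa using hD)
    have hper : ∀ q : ℕ, (z ^ p) ^ q • a = a := by
      intro q
      induction q with
      | zero => simp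
      | succ q ihq => rw [pow_succ, mul_smul, hzp, ihq]
    have hmod : ∀ i : ℕ, z ^ i • a = z ^ (i % p) • a := by
      intro i
      conv_lhs => rw [← Nat.mod_add_div i p]
      rw [pow_add, mul_smul, pow_mul, hper]
    set K : Subgroup G := ⨅ i : ℕ, stabilizer G (z ^ i • a) with hK
    have hQK : (Q : Subgroup G) ≤ K := by
      refine le_iInf fun i => ?_
      rw [hmod i]
      exact hQ _ (Finset.mem_image_of_mem _ (Finset.mem_range.mpr (Nat.mod_lt _ hp.out.pos)))
    have hzN : z ∈ Subgroup.normalizer (K : Set G) := by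
      refine mem_normalizer_iff.mpr fun y => ?_
      simp only [hK, Subgroup.mem_iInf, mem_stabilizer_iff]
      constructor
      · intro hy i
        have e : z ^ i • a = z • (z ^ (i + (p - 1)) • a) := by
          rw [← mul_smul, ← pow_succ', hmod (i + (p - 1) + 1), hmod i]
          congr 2
          rw [show i + (p - 1) + 1 = i + p by have := hp.out.pos; omega, Nat.add_mod_right]
        rw [e, ← mul_smul, mul_assoc, mul_assoc, inv_mul_cancel, mul_one, mul_smul, hy]
      · intro hy i
        have h1 := hy (i + 1)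
        have e : (z * y * z⁻¹) • z ^ (i + 1) • a = z • y • z ^ i • a := by
          simp only [← mul_smul, pow_succ']
          congr 1
          group
        rw [e, pow_succ', mul_smul] at h1
        exact (smul_left_cancel_iff z).mp h1
    have hZ : IsPGroup p (Subgroup.zpowers z) := by
      rintro ⟨y, j, rfl⟩
      refine ⟨l, Subtype.ext ?_⟩
      simp only [SubgroupClass.coe_pow, OneMemClass.coe_one]
      rw [← zpow_natCast, ← zpow_mul, mul_comm, zpow_mul, zpow_natCast, hl, one_zpow]
    have hzK : z ∈ K :=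
      le_of_le_normalizer hZ (Subgroup.zpowers_le.mpr hzN) hQK (Subgroup.mem_zpowers _)
    rw [hK, Subgroup.mem_iInf] at hzK
    have := hzK 0
    rw [pow_zero, one_smul, mem_stabilizer_iff] at this
    exact hza this

/-- Double count of pairs (Sylow subgroup, fixed coset). -/
theorem card_sylow_mul_fx {G : Type u} [Group G] [Finite G] (H : Subgroup G) :
    Nat.card (Sylow p G) * fx p H = H.index * Nat.card (Sylow p H) ∨
      ∀ Q : Sylow p G, ¬ (Q : Subgroup G) ≤ H := by
  by_cases hex : ∃ Q₀ : Sylow p G, (Q₀ : Subgroup G) ≤ H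
  swap
  · right; exact not_exists.mp hex
  obtain ⟨Q₀, hQ₀⟩ := hex
  left
  have hH : Nat.card {Q : Sylow p G // (Q : Subgroup G) ≤ H} = Nat.card (Sylow p H) := by
    refine Nat.card_congr (Equiv.ofBijective (fun Q => Q.1.subtype Q.2) ⟨?_, ?_⟩)
    · intro P Q h; exact Subtype.ext (Sylow.subtype_injective h)
    · intro R
      obtain ⟨h, rfl⟩ := MulAction.exists_smul_eq H (Q₀.subtype hQ₀) R
      exact ⟨⟨(h : G) • Q₀, Sylow.smul_le hQ₀ h⟩, (Sylow.smul_subtype hQ₀ h).symm⟩
  have hc : ∀ c : G ⧸ H, Nat.card {Q : Sylow p G // (Q : Subgroup G) ≤ stabilizer G c} =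
      Nat.card (Sylow p H) := by
    intro c
    induction c using QuotientGroup.induction_on with
    | _ g =>
      rw [← hH]
      refine (Nat.card_congr ((MulAction.toPerm g).subtypeEquiv fun Q => ?_)).symm
      rw [MulAction.toPerm_apply]
      have e : ((g : G) : G ⧸ H) = g • (((1 : G)) : G ⧸ H) := by
        rw [MulAction.Quotient.smul_coe, smul_eq_mul, mul_one]
      rw [e, smul_le_stabilizer, le_stabilizer_mk]
      simp [SetLike.le_def]
  calc Nat.card (Sylow p G) * fx p H
      = Nat.card (Σ Q : Sylow p G, fixSet H Q) := by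
        haveI : Fintype (Sylow p G) := Fintype.ofFinite _
        rw [Nat.card_sigma]
        simp_rw [← fx_eq]
        simp [Nat.card_eq_fintype_card]
    _ = Nat.card (Σ c : G ⧸ H, {Q : Sylow p G // (Q : Subgroup G) ≤ stabilizer G c}) := by
        refine Nat.card_congr
          { toFun := fun x => ⟨x.2.1, x.1, x.2.2⟩
            invFun := fun x => ⟨x.2.1, x.1, x.2.2⟩
            left_inv := fun _ => rfl
            right_inv := fun _ => rfl }
    _ = H.index * Nat.card (Sylow p H) := by
        haveI : Fintype (G ⧸ H) := Fintype.ofFinite _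
        rw [Nat.card_sigma]
        simp [hc, Subgroup.index, Nat.card_eq_fintype_card]

theorem sylow_number_bound {G : Type u} [Group G] [Finite G] (hG : SG p G) (H : Subgroup G)
    (hH : H ≠ ⊤) (P : Sylow p G) (hP : (P : Subgroup G) ≤ H) :
    (2 * p - 1) * Nat.card (Sylow p H) ≤ (p - 1) * Nat.card (Sylow p G) := by
  have hD := goodA (p := p) (Nat.card G) G le_rfl hG H hH
  have hc := (card_sylow_mul_fx (p := p) H).resolve_right fun h => h P hP
  have h1 : (2 * p - 1) * fx p H ≤ (p - 1) * H.index := by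
    have h2 := hp.out.two_le
    rw [D] at hD
    zify [show 1 ≤ 2 * p by omega, show 1 ≤ p by omega]
    linarith
  have hpos : 0 < H.index := Nat.pos_of_ne_zero index_ne_zero_of_finite
  refine Nat.le_of_mul_le_mul_right ?_ hpos
  calc (2 * p - 1) * Nat.card (Sylow p H) * H.index
      = (2 * p - 1) * fx p H * Nat.card (Sylow p G) := by
        rw [mul_assoc, mul_assoc, mul_comm (Nat.card (Sylow p H)), ← hc, mul_comm (fx p H)]
    _ ≤ (p - 1) * H.index * Nat.card (Sylow p G) := Nat.mul_le_mul_right _ h1
    _ = (p - 1) * Nat.card (Sylow p G) * H.index := by ring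

end Cfsg.Agent.Perm.SylowFix
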