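import Cfsg.Agent.Lib.Perm.SylowFix.Basic
import Mathlib.Algebra.BigOperators.Group.Finset.Basic
import Mathlib.Algebra.Order.BigOperators.Group.Finset

/-!
The orbits of a subgroup `M` containing a Sylow `p`-subgroup on the cosets of `H`:
the deficit of one orbit is bounded by the deficit of the whole plus `p` times the number of
cosets fixed by `M`.
-/

set_option autoImplicit false

namespace Cfsg.Agent.Perm.SylowFix

open MulAction Subgroup Pointwise

universe u

variable {G : Type u} [Group G] {p : ℕ} [hp : Fact p.Prime] [Finite G]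

/-- The number of cosets of `H` fixed by `M`. -/
noncomputable def efix (M H : Subgroup G) : ℕ :=
  Nat.card {c : G ⧸ H // M ≤ stabilizer G c}

open Classical in
/-- The weight of a coset. -/
noncomputable def wt (M : Subgroup G) (S : Sylow p G) {H : Subgroup G} (c : G ⧸ H) : ℤ :=
  ((p : ℤ) - 1) - (2 * (p : ℤ) - 1) * (if (S : Subgroup G) ≤ stabilizer G c then 1 else 0)
    + (p : ℤ) * (if M ≤ stabilizer G c then 1 else 0)

open Classical in
theorem sum_wt [Fintype G] (M H : Subgroup G) (S : Sylow p G) [Fintype (G ⧸ H)] :
    ∑ c : G ⧸ H, wt M S c = D p H + (p : ℤ) * efix M H := by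
  rw [D, fx_eq H S, efix, Subgroup.index]
  simp only [wt, Finset.sum_add_distrib, Finset.sum_sub_distrib, ← Finset.mul_sum,
    Finset.sum_boole, Finset.sum_const, Nat.card_eq_fintype_card, Fintype.card_subtype,
    Finset.card_univ, nsmul_eq_mul]
  ring

open Classical in
theorem sum_orbit_wt (M H : Subgroup G) (S : Sylow p G) (hSM : (S : Subgroup G) ≤ M)
    [Fintype (G ⧸ H)] (b : G ⧸ H) :
    ∑ c ∈ Finset.univ.filter (fun c => c ∈ orbit M b), wt M S c =
      D p (stabilizer M b) + (p : ℤ) * (if M ≤ stabilizer G b then 1 else 0) := by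
  haveI : Fintype (M ⧸ stabilizer M b) := Fintype.ofFinite _
  set f := ofQuotientStabilizer M b with hf
  have hinj : Function.Injective f := injective_ofQuotientStabilizer M b
  have hset : Finset.univ.filter (fun c => c ∈ orbit M b) = Finset.univ.image f := by
    ext c
    simp only [Finset.mem_filter, Finset.mem_univ, true_and, Finset.mem_image]
    constructor
    · rintro ⟨m, rfl⟩
      exact ⟨(m : M ⧸ stabilizer M b), rfl⟩
    · rintro ⟨q, rfl⟩
      exact ofQuotientStabilizer_mem_orbit M b q
  rw [hset, Finset.sum_image hinj.injOn]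
  have hS : ∀ q, (S : Subgroup G) ≤ stabilizer G (f q) ↔
      ((S.subtype hSM : Sylow p M) : Subgroup M) ≤ stabilizer M q := by
    intro q
    constructor
    · intro h m hm
      have h1 : (m : G) • f q = f q := h (by rw [Sylow.coe_subtype, mem_subgroupOf] at hm; exact hm)
      rw [mem_stabilizer_iff]
      apply hinj
      rw [hf, ofQuotientStabilizer_smul]
      exact h1
    · intro h x hx
      have h1 : (⟨x, hSM hx⟩ : M) • q = q :=
        h (by rw [Sylow.coe_subtype, mem_subgroupOf]; exact hx)
      rw [mem_stabilizer_iff]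
      have h2 := congrArg f h1
      rw [hf, ofQuotientStabilizer_smul] at h2
      exact h2
  have hM : ∀ q, M ≤ stabilizer G (f q) ↔ M ≤ stabilizer G b := by
    intro q
    induction q using QuotientGroup.induction_on with
    | _ m =>
      have e1 : f (m : M ⧸ stabilizer M b) = (m : G) • b := rfl
      rw [e1]
      constructor
      · intro h
        have h1 : (m⁻¹ : G) • (m : G) • b = (m : G) • b := h (inv_mem m.2)
        rw [inv_smul_smul] at h1
        rw [← h1] at h
        exact h
      · intro h
        have h1 : (m : G) • b = b := h m.2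
        rw [h1]; exact h
  rw [D, fx_eq _ (S.subtype hSM), Subgroup.index]
  simp only [wt, hS, hM, Finset.sum_add_distrib, Finset.sum_sub_distrib, ← Finset.mul_sum,
    Finset.sum_boole, Finset.sum_const, Nat.card_eq_fintype_card, Fintype.card_subtype,
    Finset.card_univ, nsmul_eq_mul]
  by_cases hb : M ≤ stabilizer G b
  · have h1 : stabilizer M b = ⊤ := eq_top_iff.mpr fun m _ => hb m.2
    have h2 : Fintype.card (M ⧸ stabilizer M b) = 1 := by
      rw [← Nat.card_eq_fintype_card, ← Subgroup.index, h1, Subgroup.index_top]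
    simp only [hb, if_true, h2, Finset.filter_true, Finset.card_univ]
    push_cast
    ring
  · simp only [hb, if_false, Finset.filter_false, Finset.card_empty]
    push_cast
    ring

/-- One orbit against the whole. -/
theorem orbit_bound (M H : Subgroup G) {S : Sylow p G} (hSM : (S : Subgroup G) ≤ M)
    (hA : ∀ K : Subgroup M, K ≠ ⊤ → 0 ≤ D p K) (hH : H.subgroupOf M ≠ ⊤) :
    D p (H.subgroupOf M) ≤ D p H + (p : ℤ) * efix M H := by
  classical
  haveI : Fintype G := Fintype.ofFinite G
  haveI : Fintype (G ⧸ H) := Fintype.ofFinite _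
  rw [← sum_wt M H S]
  let π : G ⧸ H → orbitRel.Quotient M (G ⧸ H) := fun c => Quotient.mk'' c
  haveI : Fintype (orbitRel.Quotient M (G ⧸ H)) := Fintype.ofFinite _
  rw [← Finset.sum_fiberwise_of_maps_to (g := π) (t := Finset.univ) (fun c _ => Finset.mem_univ _)]
  set b : G ⧸ H := ((1 : G) : G ⧸ H) with hb
  have hfib : ∀ a : G ⧸ H, Finset.univ.filter (fun c => π c = π a) =
      Finset.univ.filter (fun c => c ∈ orbit M a) := by
    intro a
    ext c
    simp only [Finset.mem_filter, Finset.mem_univ, true_and, π]
    exact Quotient.eq''.trans orbitRel_apply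
  have hstab : stabilizer M b = H.subgroupOf M := by
    ext m
    rw [mem_stabilizer_iff, mem_subgroupOf]
    change (m : G) • b = b ↔ _
    rw [hb, MulAction.Quotient.smul_coe, QuotientGroup.eq, smul_eq_mul, mul_one, mul_one,
      inv_mem_iff]
  have hnn : ∀ a : G ⧸ H,
      0 ≤ ∑ c ∈ Finset.univ.filter (fun c => π c = π a), wt M S c := by
    intro a
    rw [hfib, sum_orbit_wt M H S hSM]
    by_cases ha : M ≤ stabilizer G a
    · have h1 : stabilizer M a = ⊤ := eq_top_iff.mpr fun m _ => ha m.2
      rw [h1, D_top, if_pos ha]; simp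
    · rw [if_neg ha, mul_zero, add_zero]
      refine hA _ fun h1 => ha fun m hm => ?_
      have : (⟨m, hm⟩ : M) ∈ stabilizer M a := by rw [h1]; exact mem_top _
      exact this
  refine le_trans ?_ (Finset.single_le_sum (f := fun q => ∑ c ∈ Finset.univ.filter
    (fun c => π c = q), wt M S c) ?_ (Finset.mem_univ (π b)))
  · simp only [hfib, sum_orbit_wt M H S hSM, hstab]
    have : ¬ M ≤ stabilizer G b := by
      intro h
      apply hH
      rw [← hstab]
      exact eq_top_iff.mpr fun m _ => h m.2
    rw [if_neg this]; simp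
  · intro q _
    induction q using Quotient.inductionOn' with
    | _ a => exact hnn a

end Cfsg.Agent.Perm.SylowFix
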