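import Cfsg.Agent.Lib.Perm.SylowFix.Main

/-!
A Sylow `p`-subgroup of a transitive group of degree `n` has at most `p n / (2 p - 1)` orbits.
-/

set_option autoImplicit false

namespace Cfsg.Agent.Perm.SylowFix

open MulAction Subgroup Cfsg.Agent.Perm.SylowCount

universe u v

variable {G : Type u} [Group G] [Finite G] {Ω : Type v} [MulAction G Ω] [Finite Ω]
  {p : ℕ} [hp : Fact p.Prime]

theorem sylow_fixed_bound [FaithfulSMul G Ω] (htrans : MulAction.IsPretransitive G Ω)
    (hpG : p ∣ Nat.card G) (P : Sylow p G) :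
    (2 * p - 1) * Nat.card (fixedPoints (P : Subgroup G) Ω) ≤ (p - 1) * Nat.card Ω := by
  rcases isEmpty_or_nonempty Ω with h | ⟨⟨a⟩⟩
  · simp
  haveI := htrans
  set H := stabilizer G a with hH
  set M := pRes p (⊤ : Subgroup G) with hM
  have hnorm : M.Normal := by
    refine ⟨fun x hx g => ?_⟩
    have h1 : g ∈ nH p (⊤ : Subgroup G) := le_nH _ (mem_top g)
    exact (mem_normalizer_iff.mp h1 x).mp hx
  have hPM : (P : Subgroup G) ≤ M := le_pRes_of_isPGroup P.2 le_top
  let e : (G ⧸ H) ≃ Ω :=
    Equiv.ofBijective (ofQuotientStabilizer G a)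
      ⟨injective_ofQuotientStabilizer G a, fun d => by
        obtain ⟨g, hg⟩ := MulAction.exists_smul_eq G a d
        exact ⟨(g : G ⧸ H), hg⟩⟩
  have hnofix : ∀ c : G ⧸ H, ¬ M ≤ stabilizer G c := by
    intro c hc
    induction c using QuotientGroup.induction_on with
    | _ g =>
      rw [le_stabilizer_mk] at hc
      have hbot : ∀ x ∈ M, x = 1 := by
        intro x hx
        refine FaithfulSMul.eq_of_smul_eq_smul (α := Ω) fun b => ?_
        obtain ⟨t, rfl⟩ := MulAction.exists_smul_eq G a b
        have h1 := hnorm.conj_mem _ (hnorm.conj_mem x hx t⁻¹) g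
        have h2 : g⁻¹ * (g * (t⁻¹ * x * t⁻¹⁻¹) * g⁻¹) * g = t⁻¹ * x * t := by group
        have h3 := hc _ h1
        rw [h2] at h3
        have h4 : (t⁻¹ * x * t) • a = a := h3
        rw [mul_smul, mul_smul, inv_smul_eq_iff] at h4
        rw [h4, one_smul]
      have hP1 : (P : Subgroup G) = ⊥ := (Subgroup.eq_bot_iff_forall _).2 fun x hx => hbot x (hPM hx)
      exact P.ne_bot_of_dvd_card hpG hP1
  have hne : H.subgroupOf M ≠ ⊤ := by
    intro h
    refine hnofix ((1 : G) : G ⧸ H) ((le_stabilizer_mk 1).2 fun x hx => ?_)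
    have h1 : (⟨x, hx⟩ : M) ∈ H.subgroupOf M := by rw [h]; exact mem_top _
    simpa [mem_subgroupOf] using h1
  have hA : ∀ K : Subgroup M, K ≠ ⊤ → 0 ≤ D p K :=
    goodA (Nat.card M) M le_rfl (sg_pRes ⊤)
  have hb := orbit_bound M H hPM hA hne
  have he : efix M H = 0 := by
    rw [efix, Nat.card_eq_zero]
    exact Or.inl ⟨fun c => hnofix c.1 c.2⟩
  have h0 := hA _ hne
  have hidx : H.index = Nat.card Ω := Nat.card_congr e
  have hfix : fx p H = Nat.card (fixedPoints (P : Subgroup G) Ω) := by
    rw [fx_eq H P]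
    refine Nat.card_congr (e.subtypeEquiv fun q => ?_)
    constructor
    · intro h x
      change (x : G) • ofQuotientStabilizer G a q = ofQuotientStabilizer G a q
      rw [← ofQuotientStabilizer_smul]
      exact congrArg _ (mem_stabilizer_iff.mp (h x.2))
    · intro h x hx
      refine mem_stabilizer_iff.mpr (injective_ofQuotientStabilizer G a ?_)
      rw [ofQuotientStabilizer_smul]
      exact h ⟨x, hx⟩
  rw [he, Nat.cast_zero, mul_zero, add_zero] at hb
  have h3 : 0 ≤ D p H := h0.trans hb
  rw [D, hidx, hfix] at h3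
  have h2 := hp.out.two_le
  zify [show 1 ≤ 2 * p by omega, show 1 ≤ p by omega]
  linarith

omit [Finite G] in
theorem card_orbits_mul_le (R : Subgroup G) (hR : IsPGroup p R) :
    p * Nat.card (orbitRel.Quotient R Ω) ≤
      Nat.card Ω + (p - 1) * Nat.card (fixedPoints R Ω) := by
  classical
  haveI : Fintype (orbitRel.Quotient R Ω) := Fintype.ofFinite _
  have hsum : Nat.card Ω = ∑ q : orbitRel.Quotient R Ω, Nat.card q.orbit := by
    rw [Nat.card_congr (selfEquivSigmaOrbits' R Ω), Nat.card_sigma]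
  have hpos : ∀ q : orbitRel.Quotient R Ω, 0 < Nat.card q.orbit := by
    intro q
    haveI := (orbitRel.Quotient.nonempty_orbit q).to_subtype
    exact Nat.card_pos
  have hle : ∀ q : orbitRel.Quotient R Ω,
      p ≤ Nat.card q.orbit + (p - 1) * (if Nat.card q.orbit = 1 then 1 else 0) := by
    intro q
    induction q using Quotient.inductionOn' with
    | _ b =>
      rw [orbitRel.Quotient.orbit_mk]
      obtain ⟨k, hk⟩ := hR.card_orbit b
      rw [hk]
      rcases k with _ | k
      · have := hp.out.pos; simp; omega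
      · refine le_trans ?_ (Nat.le_add_right _ _)
        exact Nat.le_self_pow (Nat.succ_ne_zero k) p
  have hfix : (Finset.univ.filter fun q : orbitRel.Quotient R Ω => Nat.card q.orbit = 1).card ≤
      Nat.card (fixedPoints R Ω) := by
    have key : ∀ q : {q : orbitRel.Quotient R Ω // Nat.card q.orbit = 1},
        ∃ b : fixedPoints R Ω, Quotient.mk'' (b : Ω) = q.1 := by
      rintro ⟨q, hq⟩
      induction q using Quotient.inductionOn' with
      | _ b =>
        rw [orbitRel.Quotient.orbit_mk, Nat.card_eq_one_iff_unique] at hq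
        haveI := hq.1
        refine ⟨⟨b, fun x => ?_⟩, rfl⟩
        have h1 : (⟨x • b, mem_orbit b x⟩ : orbit R b) = ⟨b, mem_orbit_self b⟩ :=
          Subsingleton.elim _ _
        exact congrArg Subtype.val h1
    choose f hf using key
    have hinj : Function.Injective f := fun a b h => Subtype.ext (by rw [← hf a, ← hf b, h])
    have := Nat.card_le_card_of_injective f hinj
    rwa [Nat.card_eq_fintype_card, Fintype.card_subtype] at this
  calc p * Nat.card (orbitRel.Quotient R Ω) = ∑ _q : orbitRel.Quotient R Ω, p := by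
        simp [Nat.card_eq_fintype_card, mul_comm]
    _ ≤ ∑ q : orbitRel.Quotient R Ω,
          (Nat.card q.orbit + (p - 1) * (if Nat.card q.orbit = 1 then 1 else 0)) :=
        Finset.sum_le_sum fun q _ => hle q
    _ ≤ Nat.card Ω + (p - 1) * Nat.card (fixedPoints R Ω) := by
        rw [Finset.sum_add_distrib, ← hsum, ← Finset.mul_sum, Finset.sum_boole, Nat.cast_id]
        exact Nat.add_le_add_left (Nat.mul_le_mul_left _ hfix) _

theorem sylow_orbit_count [FaithfulSMul G Ω] (htrans : MulAction.IsPretransitive G Ω)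
    (hpG : p ∣ Nat.card G) (P : Sylow p G) :
    (2 * p - 1) * Nat.card (orbitRel.Quotient (P : Subgroup G) Ω) ≤ p * Nat.card Ω := by
  have h1 := sylow_fixed_bound htrans hpG P
  have h2 := card_orbits_mul_le (Ω := Ω) (P : Subgroup G) P.2
  obtain ⟨q, rfl⟩ : ∃ q, p = q + 1 := ⟨p - 1, by have := hp.out.pos; omega⟩
  simp only [show 2 * (q + 1) - 1 = 2 * q + 1 by omega, Nat.add_sub_cancel] at h1 h2 ⊢
  refine Nat.le_of_mul_le_mul_left ?_ (Nat.succ_pos q)
  nlinarith [Nat.mul_le_mul_left (2 * q + 1) h2, Nat.mul_le_mul_left q h1]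

end Cfsg.Agent.Perm.SylowFix
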